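import Mathlib
import Cfsg.Agent.Lib.SmallTwo.DihedralRec
import Cfsg.Agent.Lib.Classical.QuaternionRec

/-!
A nonabelian group of order eight is dihedral or quaternion.
-/

set_option autoImplicit false

namespace CfsgLib.SixtyFour

variable {H : Type*} [Group H] [Finite H]

theorem orderOf_eq_four_of_sq_ne {a : H} (h8 : Nat.card H = 8) (hcyc : ∀ g : H, orderOf g ≠ 8)
    (ha : a ^ 2 ≠ 1) : orderOf a = 4 := by
  have hdvd : orderOf a ∣ 2 ^ 3 := by
    have h := orderOf_dvd_natCard a
    rw [h8] at h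
    exact h
  obtain ⟨i, hi, he⟩ := (Nat.dvd_prime_pow Nat.prime_two).mp hdvd
  interval_cases i
  · refine absurd ?_ ha
    have h0 : orderOf a = 1 := by simpa using he
    rw [orderOf_eq_one_iff.mp h0, one_pow]
  · exact absurd (orderOf_dvd_iff_pow_eq_one.mp (by rw [he]; norm_num)) ha
  · simpa using he
  · exact absurd (by simpa using he) (hcyc a)

theorem eight_dihedral_or_quaternion (h8 : Nat.card H = 8) (hna : ¬ IsMulCommutative H) :
    Nonempty (H ≃* DihedralGroup 4) ∨ Nonempty (H ≃* QuaternionGroup 2) := by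
  classical
  have hcyc : ∀ g : H, orderOf g ≠ 8 := by
    intro g hg
    have : IsCyclic H := isCyclic_of_orderOf_eq_card g (hg.trans h8.symm)
    exact hna IsCyclic.isMulCommutative
  obtain ⟨a, ha2⟩ : ∃ a : H, a ^ 2 ≠ 1 := by
    by_contra hall
    refine hna ⟨⟨fun a b => ?_⟩⟩
    have h1 : ∀ g : H, g⁻¹ = g := fun g =>
      inv_eq_of_mul_eq_one_right (by rw [← pow_two]; exact not_not.mp fun h => hall ⟨g, h⟩)
    calc a * b = (a * b)⁻¹ := (h1 _).symm
      _ = b * a := by rw [mul_inv_rev, h1, h1]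
  have ha : orderOf a = 4 := orderOf_eq_four_of_sq_ne h8 hcyc ha2
  set A := Subgroup.zpowers a with hA
  have hAi : A.index = 2 := by
    have h := A.card_mul_index
    rw [hA, Nat.card_zpowers, ha, h8] at h
    rw [hA]; omega
  haveI : A.Normal := Subgroup.normal_of_index_eq_two hAi
  obtain ⟨w, hw⟩ : ∃ w, w ∉ A := by
    by_contra hall
    have : A = ⊤ := eq_top_iff.mpr fun x _ => by_contra fun hx => hall ⟨x, hx⟩
    rw [this, Subgroup.index_top] at hAi
    omega
  have hcard : ∀ f : H, (∀ g ∈ A, Commute f g) → f ∈ A := by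
    intro f hf
    by_contra hfA
    refine hna ⟨⟨fun p q => ?_⟩⟩
    have hmem : ∀ r : H, r ∈ A ∨ ∃ g ∈ A, r = f * g := by
      intro r
      by_cases hr : r ∈ A
      · exact Or.inl hr
      · refine Or.inr ⟨f⁻¹ * r, ?_, by group⟩
        exact (Subgroup.mul_mem_iff_of_index_two hAi).mpr ⟨fun h => absurd (by simpa using h) hfA,
          fun h => absurd h hr⟩
    have hAc : ∀ g ∈ A, ∀ g' ∈ A, Commute g g' := by
      rintro _ ⟨i, rfl⟩ _ ⟨j, rfl⟩
      exact (Commute.refl a).zpow_zpow i j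
    rcases hmem p with hp | ⟨g, hg, rfl⟩ <;> rcases hmem q with hq | ⟨g', hg', rfl⟩
    · exact (hAc p hp q hq).eq
    · exact ((hf p hp).symm.mul_right (hAc p hp g' hg')).eq
    · exact ((hf q hq).mul_left (hAc g hg q hq)).eq
    · exact (((Commute.refl f).mul_right (hf g' hg')).mul_left
        ((hf g hg).symm.mul_right (hAc g hg g' hg'))).eq
  have hinv : w * a * w⁻¹ = a⁻¹ := by
    obtain ⟨k, hk, hk'⟩ : ∃ k < 4, a ^ k = w * a * w⁻¹ := by
      have hm : w * a * w⁻¹ ∈ A := Subgroup.Normal.conj_mem inferInstance a (Subgroup.mem_zpowers a) w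
      rw [hA, mem_zpowers_iff_mem_range_orderOf, ha] at hm
      obtain ⟨k, hk, hk'⟩ := Finset.mem_image.mp hm
      exact ⟨k, Finset.mem_range.mp hk, hk'⟩
    have ho : orderOf (a ^ k) = 4 := by
      rw [hk', show w * a * w⁻¹ = MulAut.conj w a from rfl, MulEquiv.orderOf_eq, ha]
    interval_cases k
    · simp at ho
    · exfalso
      refine hw (hcard w fun g hg => ?_)
      obtain ⟨i, rfl⟩ := hg
      rw [pow_one] at hk'
      exact (show Commute w a from mul_inv_eq_iff_eq_mul.mp hk'.symm).zpow_right i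
    · exfalso
      have : orderOf (a ^ 2) ∣ 2 := orderOf_dvd_of_pow_eq_one (by
        rw [← pow_mul, show 2 * 2 = orderOf a from ha.symm, pow_orderOf_eq_one])
      rw [ho] at this
      omega
    · rw [← hk']
      exact (inv_eq_of_mul_eq_one_right (by
        rw [← pow_succ', show 3 + 1 = orderOf a from ha.symm, pow_orderOf_eq_one])).symm
  have hwA : w * w ∈ A := (Subgroup.mul_mem_iff_of_index_two hAi).mpr Iff.rfl
  obtain ⟨k, hk, hk'⟩ : ∃ k < 4, a ^ k = w * w := by
    rw [hA, mem_zpowers_iff_mem_range_orderOf, ha] at hwA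
    obtain ⟨k, hk, hk'⟩ := Finset.mem_image.mp hwA
    exact ⟨k, Finset.mem_range.mp hk, hk'⟩
  have hfix : w * a ^ k * w⁻¹ = a ^ k := by rw [hk']; group
  rw [← conj_pow, hinv, inv_pow, inv_eq_iff_mul_eq_one, ← pow_add] at hfix
  have hdvd := orderOf_dvd_of_pow_eq_one hfix
  rw [ha] at hdvd
  have htop : ∀ {K : Type} [Group K] (f : K →* H), Function.Injective f → Nat.card K = 8 →
      Nonempty (H ≃* K) := by
    intro K _ f hf hK
    haveI : Finite K := Finite.of_injective f hf
    exact ⟨(MulEquiv.ofBijective f ((Nat.bijective_iff_injective_and_card f).mpr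
      ⟨hf, hK.trans h8.symm⟩)).symm⟩
  interval_cases k
  · obtain ⟨f, hf, -⟩ := SmallTwo.exists_dihedral_hom_injective (n := 4) ha (by simpa using hk'.symm)
      hinv hw
    exact Or.inl (htop f hf (by rw [DihedralGroup.nat_card]))
  · omega
  · obtain ⟨f, hf, -⟩ := Classical.exists_quaternion_hom (n := 2) ha hk'.symm hinv hw
    exact Or.inr (htop f hf (by rw [Nat.card_eq_fintype_card, QuaternionGroup.card]))
  · omega

end CfsgLib.SixtyFour
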