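import Mathlib

/-!
A nonabelian group of order 64 with a symmetric group of degree three of automorphisms, the elements
of order three fixing only the identity.
-/

set_option autoImplicit false
set_option linter.unusedSectionVars false

namespace CfsgLib.SixtyFour

variable {T : Type*} [Group T]

/-- The commutator. -/
def K (u v : T) : T := u * v * u⁻¹ * v⁻¹

/-- The data. -/
structure Hyp (ρ x : MulAut T) : Prop where
  card : Nat.card T = 64
  na : ¬ IsMulCommutative T
  cube : ∀ y : T, ρ (ρ (ρ y)) = y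
  sq : ∀ y : T, x (x y) = y
  dih : ∀ y : T, x (ρ y) = ρ (ρ (x y))
  fpf : ∀ y : T, ρ y = y → y = 1

theorem norm_eq_one [Finite T] (ρ : MulAut T) (h3 : ∀ y : T, ρ (ρ (ρ y)) = y)
    (hfp : ∀ y : T, ρ y = y → y = 1) (y : T) : y * ρ y * ρ (ρ y) = 1 := by
  have hinj : Function.Injective (fun w : T => w⁻¹ * ρ w) := by
    intro u v h
    have h1 : ρ (u * v⁻¹) = u * v⁻¹ := by
      have h' : u⁻¹ * ρ u = v⁻¹ * ρ v := h
      rw [map_mul, map_inv]
      calc ρ u * (ρ v)⁻¹ = u * (u⁻¹ * ρ u) * (ρ v)⁻¹ := by group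
        _ = u * (v⁻¹ * ρ v) * (ρ v)⁻¹ := by rw [h']
        _ = u * v⁻¹ := by group
    exact mul_inv_eq_one.mp (hfp _ h1)
  obtain ⟨w, hw⟩ := Finite.surjective_of_injective hinj y
  dsimp only at hw
  rw [← hw]
  simp only [map_mul, map_inv, h3]
  group

theorem commute_rho [Finite T] (ρ : MulAut T) (h3 : ∀ y : T, ρ (ρ (ρ y)) = y)
    (hfp : ∀ y : T, ρ y = y → y = 1) (y : T) : Commute y (ρ y) := by
  have h1 := norm_eq_one ρ h3 hfp y
  have h2 := norm_eq_one ρ h3 hfp y⁻¹
  simp only [map_inv] at h2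
  have e1 : ρ (ρ y) = (y * ρ y)⁻¹ := eq_inv_of_mul_eq_one_right h1
  have e2 : ρ (ρ y) = (ρ y)⁻¹ * y⁻¹ := by rw [e1, mul_inv_rev]
  have e3 : (ρ (ρ y))⁻¹ = ρ y * y := by
    have := eq_inv_of_mul_eq_one_right h2
    rw [this]; group
  have e4 : y * ρ y = ρ y * y := by rw [← e3, e2]; group
  exact e4

/-- An invariant subgroup has order congruent to one modulo three. -/
theorem card_mod_three [Finite T] (ρ : MulAut T) (h3 : ∀ y : T, ρ (ρ (ρ y)) = y)
    (hfp : ∀ y : T, ρ y = y → y = 1) (N : Subgroup T) (hN : ∀ y ∈ N, ρ y ∈ N) :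
    Nat.card N % 3 = 1 := by
  classical
  letI := Fintype.ofFinite N
  haveI := Fact.mk Nat.prime_three
  let f : Function.End N := fun y => ⟨ρ y, hN y y.2⟩
  have hf : f ^ 3 ^ 1 = 1 := by
    funext y
    exact Subtype.ext (h3 y)
  have h := Equiv.Perm.card_fixedPoints_modEq hf
  have hone : Fintype.card (Function.fixedPoints f) = 1 := by
    rw [Fintype.card_eq_one_iff]
    refine ⟨⟨1, Subtype.ext (map_one ρ)⟩, ?_⟩
    rintro ⟨y, hy⟩
    refine Subtype.ext (Subtype.ext ?_)
    exact hfp y (congrArg Subtype.val hy)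
  rw [hone] at h
  rw [Nat.card_eq_fintype_card]
  exact h

/-- A central invariant subgroup of index four forces the group to be commutative. -/
theorem comm_of_index_four [Finite T] (ρ : MulAut T) (h3 : ∀ y : T, ρ (ρ (ρ y)) = y)
    (hfp : ∀ y : T, ρ y = y → y = 1) (N : Subgroup T) (hN : ∀ y ∈ N, ρ y ∈ N)
    (hc : N ≤ Subgroup.center T) (h4 : Nat.card T = 4 * Nat.card N) : IsMulCommutative T := by
  obtain ⟨p, hp⟩ : ∃ p, p ∉ N := by
    by_contra hall
    have : N = ⊤ := eq_top_iff.mpr fun y _ => by_contra fun hy => hall ⟨y, hy⟩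
    rw [this, Subgroup.card_top] at h4
    have := Nat.card_pos (α := T)
    omega
  set H := Subgroup.closure ((N : Set T) ∪ {p, ρ p}) with hH
  have hcm : ∀ z ∈ N, ∀ y : T, Commute z y := fun z hz y => (Subgroup.mem_center_iff.mp (hc hz) y).symm
  have hpc := commute_rho ρ h3 hfp p
  haveI hHc : IsMulCommutative H := Subgroup.isMulCommutative_closure (by
    intro u hu v hv
    rcases hu with hu | rfl | rfl
    · exact (hcm u hu v).eq
    all_goals rcases hv with hv | rfl | rfl
    all_goals first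
      | exact (hcm v hv _).symm.eq
      | rfl
      | exact hpc.eq
      | exact hpc.symm.eq)
  have hHi : ∀ y ∈ H, ρ y ∈ H := by
    intro y hy
    have hle : H.map ρ.toMonoidHom ≤ H := by
      rw [hH, MonoidHom.map_closure, Subgroup.closure_le]
      rintro _ ⟨u, hu, rfl⟩
      rcases hu with hu | rfl | rfl
      · exact Subgroup.subset_closure (Or.inl (hN u hu))
      · exact Subgroup.subset_closure (Or.inr (Or.inr rfl))
      · change ρ (ρ p) ∈ H
        have h := norm_eq_one ρ h3 hfp p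
        rw [eq_inv_of_mul_eq_one_right h]
        exact inv_mem (mul_mem (Subgroup.subset_closure (Or.inr (Or.inl rfl)))
          (Subgroup.subset_closure (Or.inr (Or.inr rfl))))
    exact hle ⟨y, hy, rfl⟩
  have hNH : N ≤ H := fun y hy => Subgroup.subset_closure (Or.inl hy)
  have hpH : p ∈ H := Subgroup.subset_closure (Or.inr (Or.inl rfl))
  obtain ⟨d, hd⟩ := Subgroup.card_dvd_of_le hNH
  have hdvd := Subgroup.card_subgroup_dvd_card H
  rw [h4, hd, mul_comm 4, Nat.mul_dvd_mul_iff_left Nat.card_pos] at hdvd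
  have hd4 : d ≤ 4 := Nat.le_of_dvd (by omega) hdvd
  have hd1 : d ≠ 1 := by
    rintro rfl
    rw [mul_one] at hd
    exact hp ((Subgroup.eq_of_le_of_card_ge hNH hd.le).symm ▸ hpH)
  have hd2 : d ≠ 2 := by
    rintro rfl
    have h1 := card_mod_three ρ h3 hfp N hN
    have h2 := card_mod_three ρ h3 hfp H hHi
    omega
  have hd4' : d = 4 := by
    interval_cases d <;> omega
  have htop : H = ⊤ := Subgroup.eq_top_of_card_eq _ (by rw [hd, hd4', h4, mul_comm])
  exact ⟨⟨fun u v => congrArg Subtype.val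
    (hHc.is_comm.comm (⟨u, htop ▸ trivial⟩ : H) ⟨v, htop ▸ trivial⟩)⟩⟩

variable {ρ x : MulAut T}

namespace Hyp

variable [Finite T] (h : Hyp ρ x)
include h

theorem norm (y : T) : y * ρ y * ρ (ρ y) = 1 := norm_eq_one ρ h.cube h.fpf y

theorem dih' (y : T) : x (ρ (ρ y)) = ρ (x y) := by
  rw [h.dih, h.dih, h.cube]

theorem rho_center {y : T} (hy : y ∈ Subgroup.center T) : ρ y ∈ Subgroup.center T :=
  Subgroup.mem_center_iff.mpr fun g => by
    obtain ⟨g, rfl⟩ := ρ.surjective g
    rw [← map_mul, ← map_mul, Subgroup.mem_center_iff.mp hy g]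

theorem x_center {y : T} (hy : y ∈ Subgroup.center T) : x y ∈ Subgroup.center T :=
  Subgroup.mem_center_iff.mpr fun g => by
    obtain ⟨g, rfl⟩ := x.surjective g
    rw [← map_mul, ← map_mul, Subgroup.mem_center_iff.mp hy g]

theorem card_center : Nat.card (Subgroup.center T) = 4 := by
  haveI := Fact.mk Nat.prime_two
  have hp : IsPGroup 2 T := IsPGroup.of_card (n := 6) (by rw [h.card]; norm_num)
  haveI : Nontrivial T := Finite.one_lt_card_iff_nontrivial.mp (by rw [h.card]; norm_num)
  have h1 : 1 < Nat.card (Subgroup.center T) :=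
    Finite.one_lt_card_iff_nontrivial.mpr hp.center_nontrivial
  have hdvd : Nat.card (Subgroup.center T) ∣ 2 ^ 6 := by
    have := Subgroup.card_subgroup_dvd_card (Subgroup.center T)
    rwa [h.card] at this
  have hm := card_mod_three ρ h.cube h.fpf (Subgroup.center T) (fun _ hy => h.rho_center hy)
  obtain ⟨i, hi, he⟩ := (Nat.dvd_prime_pow Nat.prime_two).mp hdvd
  have h16 : Nat.card (Subgroup.center T) ≠ 16 := fun e => h.na
    (comm_of_index_four ρ h.cube h.fpf _ (fun _ hy => h.rho_center hy) le_rfl (by rw [e, h.card]))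
  have h64 : Nat.card (Subgroup.center T) ≠ 64 := fun e => h.na ⟨⟨fun u v => by
    have htop : Subgroup.center T = ⊤ := Subgroup.eq_top_of_card_eq _ (e.trans h.card.symm)
    exact (Subgroup.mem_center_iff.mp (htop.symm ▸ trivial : v ∈ Subgroup.center T) u)⟩⟩
  interval_cases i <;> simp_all

theorem center_list {z : T} (hz : z ∈ Subgroup.center T) (hz1 : z ≠ 1) {w : T}
    (hw : w ∈ Subgroup.center T) : w = 1 ∨ w = z ∨ w = ρ z ∨ w = ρ (ρ z) := by
  classical
  letI := Fintype.ofFinite T
  have n1 : ρ z ≠ 1 := fun e => hz1 (ρ.injective (e.trans (map_one ρ).symm))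
  have n2 : ρ (ρ z) ≠ 1 := fun e => n1 (ρ.injective (e.trans (map_one ρ).symm))
  have n3 : ρ z ≠ z := fun e => hz1 (h.fpf z e)
  have n4 : ρ (ρ z) ≠ ρ z := fun e => n1 (h.fpf _ e)
  have n5 : ρ (ρ z) ≠ z := fun e => hz1 (h.fpf z (by
    have := congrArg ρ e; rw [h.cube] at this; exact this.symm))
  have hsub : ({1, z, ρ z, ρ (ρ z)} : Finset T) ⊆
      Finset.univ.filter (· ∈ Subgroup.center T) := by
    intro v hv
    simp only [Finset.mem_insert, Finset.mem_singleton] at hv
    rw [Finset.mem_filter]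
    refine ⟨Finset.mem_univ _, ?_⟩
    rcases hv with rfl | rfl | rfl | rfl
    exacts [one_mem _, hz, h.rho_center hz, h.rho_center (h.rho_center hz)]
  have hc : (Finset.univ.filter (· ∈ Subgroup.center T)).card = 4 := by
    rw [← Fintype.card_subtype, ← Nat.card_eq_fintype_card]
    exact h.card_center
  have heq := Finset.eq_of_subset_of_card_le hsub (by
    rw [hc]
    rw [Finset.card_insert_of_notMem (by simp [Ne.symm hz1, Ne.symm n1, Ne.symm n2]),
      Finset.card_insert_of_notMem (by simp [Ne.symm n3, Ne.symm n5]),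
      Finset.card_insert_of_notMem (by simp [Ne.symm n4]), Finset.card_singleton])
  have : w ∈ ({1, z, ρ z, ρ (ρ z)} : Finset T) := by
    rw [heq, Finset.mem_filter]; exact ⟨Finset.mem_univ _, hw⟩
  simpa using this

theorem center_sq {z : T} (hz : z ∈ Subgroup.center T) : z * z = 1 := by
  rcases eq_or_ne z 1 with rfl | hz1
  · exact one_mul 1
  have h4 : z ^ 4 = 1 := by
    have : (⟨z, hz⟩ : Subgroup.center T) ^ Nat.card (Subgroup.center T) = 1 := pow_card_eq_one'
    rw [h.card_center] at this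
    exact congrArg Subtype.val this
  rcases h.center_list hz hz1 (mul_mem hz hz) with e | e | e | e
  · exact e
  · exact absurd (mul_eq_left.mp e) hz1
  · have h2 : ρ z * ρ z = 1 := by rw [← e, ← h4]; simp [pow_succ, mul_assoc]
    rw [← map_mul] at h2
    exact ρ.injective (h2.trans (map_one ρ).symm)
  · have h2 : ρ (ρ z) * ρ (ρ z) = 1 := by rw [← e, ← h4]; simp [pow_succ, mul_assoc]
    rw [← map_mul, ← map_mul] at h2
    exact ρ.injective (ρ.injective (h2.trans (by simp)))

theorem commutator_mem (u v : T) : K u v ∈ Subgroup.center T := by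
  haveI := Fact.mk Nat.prime_two
  have hp : IsPGroup 2 T := IsPGroup.of_card (n := 6) (by rw [h.card]; norm_num)
  have hZi : ∀ y ∈ Subgroup.center T, ρ y ∈ Subgroup.center T := fun _ hy => h.rho_center hy
  let f : (T ⧸ Subgroup.center T) →* (T ⧸ Subgroup.center T) :=
    QuotientGroup.map _ _ ρ.toMonoidHom fun y hy => hZi y hy
  have hf3 : ∀ q, f (f (f q)) = q := by
    rintro ⟨y⟩
    exact congrArg QuotientGroup.mk (h.cube y)
  let σ : MulAut (T ⧸ Subgroup.center T) :=
    { toFun := f, invFun := fun q => f (f q), left_inv := hf3, right_inv := hf3,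
      map_mul' := map_mul f }
  have hσ3 : ∀ q, σ (σ (σ q)) = q := hf3
  have hσfp : ∀ q, σ q = q → q = 1 := by
    rintro ⟨y⟩ hy
    change (QuotientGroup.mk (ρ y) : T ⧸ Subgroup.center T) = QuotientGroup.mk y at hy
    refine (QuotientGroup.eq_one_iff y).mpr ?_
    obtain ⟨w, hw, hyw⟩ : ∃ w ∈ Subgroup.center T, ρ y = y * w :=
      ⟨y⁻¹ * ρ y, QuotientGroup.eq.mp hy.symm, by group⟩
    have hn := h.norm y
    rw [hyw, map_mul, hyw] at hn
    have hwc : ∀ g : T, g * w = w * g := Subgroup.mem_center_iff.mp hw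
    have h3 : y ^ 3 ∈ Subgroup.center T := by
      have e : y ^ 3 = ((w * w) * ρ w)⁻¹ := by
        refine eq_inv_of_mul_eq_one_left ?_
        rw [← hn, pow_succ, pow_two,
          show y * (y * w) * (y * w * ρ w) = y * y * (w * y) * w * ρ w by group, ← hwc y]
        group
      rw [e]
      exact inv_mem (mul_mem (mul_mem hw hw) (hZi w hw))
    have h64 : y ^ 64 = 1 := by rw [← h.card]; exact pow_card_eq_one'
    have e : y = y ^ 64 * ((y ^ 3) ^ 21)⁻¹ := by
      rw [← pow_mul]
      show y = y ^ (63 + 1) * (y ^ 63)⁻¹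
      rw [pow_succ' y 63]; group
    rw [e, h64, one_mul]
    exact inv_mem (pow_mem h3 21)
  have hQ : Nat.card (T ⧸ Subgroup.center T) = 16 := by
    have := Subgroup.card_eq_card_quotient_mul_card_subgroup (Subgroup.center T)
    rw [h.card, h.card_center] at this
    omega
  have hQc : IsMulCommutative (T ⧸ Subgroup.center T) := by
    haveI : Nontrivial (T ⧸ Subgroup.center T) :=
      Finite.one_lt_card_iff_nontrivial.mp (by rw [hQ]; norm_num)
    have hQp : IsPGroup 2 (T ⧸ Subgroup.center T) := hp.to_quotient _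
    set Z2 := Subgroup.center (T ⧸ Subgroup.center T) with hZ2
    have hinv : ∀ q ∈ Z2, σ q ∈ Z2 := fun q hq => Subgroup.mem_center_iff.mpr fun g => by
      obtain ⟨g, rfl⟩ := σ.surjective g
      rw [← map_mul, ← map_mul, Subgroup.mem_center_iff.mp hq g]
    have hm := card_mod_three σ hσ3 hσfp Z2 hinv
    have h1 : 1 < Nat.card Z2 := Finite.one_lt_card_iff_nontrivial.mpr hQp.center_nontrivial
    have hdvd : Nat.card Z2 ∣ 2 ^ 4 := by
      have := Subgroup.card_subgroup_dvd_card Z2
      rwa [hQ] at this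
    obtain ⟨i, hi, he⟩ := (Nat.dvd_prime_pow Nat.prime_two).mp hdvd
    have hcases : Nat.card Z2 = 4 ∨ Nat.card Z2 = 16 := by interval_cases i <;> omega
    rcases hcases with he | he
    · exact comm_of_index_four σ hσ3 hσfp Z2 hinv le_rfl (by rw [he, hQ])
    · have htop : Z2 = ⊤ := Subgroup.eq_top_of_card_eq _ (he.trans hQ.symm)
      exact ⟨⟨fun p q => Subgroup.mem_center_iff.mp (htop.symm ▸ trivial : q ∈ Z2) p⟩⟩
  rw [← QuotientGroup.eq_one_iff]
  simp only [K, QuotientGroup.mk_mul, QuotientGroup.mk_inv]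
  rw [hQc.is_comm.comm (u : T ⧸ Subgroup.center T) (v : T ⧸ Subgroup.center T)]
  group

theorem K_comm (u v w : T) : K u v * w = w * K u v :=
  (Subgroup.mem_center_iff.mp (h.commutator_mem u v) w).symm

theorem K_mul_left (u v w : T) : K (u * v) w = K u w * K v w := by
  have e : K (u * v) w = u * K v w * u⁻¹ * K u w := by unfold K; group
  rw [e, ← h.K_comm v w u, mul_inv_cancel_right, h.K_comm v w]

theorem K_inv (u v : T) : K v u = K u v := by
  have e : K v u = (K u v)⁻¹ := by unfold K; group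
  rw [e]
  exact inv_eq_of_mul_eq_one_right (h.center_sq (h.commutator_mem u v))

theorem K_mul_right (u v w : T) : K u (v * w) = K u v * K u w := by
  rw [h.K_inv, h.K_mul_left, h.K_inv v, h.K_inv w]

theorem K_self (u : T) : K u u = 1 := by unfold K; group

theorem K_one_left (u : T) : K 1 u = 1 := by unfold K; group

theorem swap (u v : T) : u * v = K u v * (v * u) := by unfold K; group

theorem sq_mem (u : T) : u * u ∈ Subgroup.center T := by
  refine Subgroup.mem_center_iff.mpr fun w => ?_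
  have e : K (u * u) w = 1 := by rw [h.K_mul_left, h.center_sq (h.commutator_mem u w)]
  rw [h.swap (u * u) w, e, one_mul]

theorem K_map (φ : MulAut T) (u v : T) : φ (K u v) = K (φ u) (φ v) := by
  simp [K]

theorem K_rho_self (u : T) : K u (ρ u) = 1 := by
  have := (commute_rho ρ h.cube h.fpf u).eq
  unfold K
  rw [this]; group

theorem K_norm_right (u v : T) : K u v * K u (ρ v) * K u (ρ (ρ v)) = 1 := by
  rw [← h.K_mul_right, ← h.K_mul_right, h.norm]
  unfold K; group

/-- The bracket of `u` with a rotated element. -/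
theorem K_rho_right (u v : T) : K u (ρ v) = ρ (ρ (K u v)) := by
  set c := K u v with hc
  set d := K u (ρ v) with hd
  have e2 : K (ρ u) (ρ (ρ v)) = ρ d := (h.K_map ρ u (ρ v)).symm
  have e3 : K (ρ u) (ρ v) = ρ c := (h.K_map ρ u v).symm
  have e4 : K (ρ u) v * ρ c * ρ d = 1 := by rw [← e3, ← e2]; exact h.K_norm_right (ρ u) v
  have e5 : K (ρ (ρ u)) v = ρ (ρ d) := by
    rw [h.K_map ρ, h.K_map ρ, h.cube]
  have e6 : c * K (ρ u) v * K (ρ (ρ u)) v = 1 := by
    rw [hc, ← h.K_mul_left, ← h.K_mul_left, h.norm, h.K_one_left]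
  have hcZ : c ∈ Subgroup.center T := h.commutator_mem _ _
  have hdZ : d ∈ Subgroup.center T := h.commutator_mem _ _
  have hrd : ρ d ∈ Subgroup.center T := h.rho_center hdZ
  have hrc : ρ c ∈ Subgroup.center T := h.rho_center hcZ
  have sd : ρ d * ρ d = 1 := h.center_sq hrd
  have sc : ρ c * ρ c = 1 := h.center_sq hrc
  have e7 : K (ρ u) v = ρ d * ρ c := by
    calc K (ρ u) v = K (ρ u) v * (ρ c * (ρ d * ρ d) * ρ c) := by rw [sd, mul_one, sc, mul_one]
      _ = (K (ρ u) v * ρ c * ρ d) * (ρ d * ρ c) := by group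
      _ = ρ d * ρ c := by rw [e4, one_mul]
  rw [e7, e5] at e6
  -- `c * ρ d * ρ c * ρ² d = 1`
  have hn1 := h.norm d
  have hn2 := h.norm c
  have key : d = c * ρ c := by
    have : ρ d * ρ (ρ d) = d := by
      have hd2 : d * d = 1 := h.center_sq hdZ
      calc ρ d * ρ (ρ d) = d * d * (ρ d * ρ (ρ d)) := by rw [hd2, one_mul]
        _ = d * (d * ρ d * ρ (ρ d)) := by group
        _ = d := by rw [hn1, mul_one]
    have hcc : c * (ρ d * ρ c) * ρ (ρ d) = c * ρ c * (ρ d * ρ (ρ d)) := by
      rw [(Subgroup.mem_center_iff.mp hrd (ρ c)).symm]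
      group
    rw [hcc, this] at e6
    calc d = (c * ρ c)⁻¹ := eq_inv_of_mul_eq_one_right e6
      _ = (ρ c)⁻¹ * c⁻¹ := mul_inv_rev _ _
      _ = ρ c * c := by rw [inv_eq_of_mul_eq_one_right sc, inv_eq_of_mul_eq_one_right (h.center_sq hcZ)]
      _ = c * ρ c := (Subgroup.mem_center_iff.mp hcZ (ρ c))
  rw [key]
  exact ((eq_inv_of_mul_eq_one_right hn2).trans
    (inv_eq_of_mul_eq_one_right (h.center_sq (mul_mem hcZ hrc)))).symm

theorem K_rho_left (u v : T) : K (ρ u) v = ρ (ρ (K u v)) := by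
  rw [h.K_inv v (ρ u), h.K_rho_right, h.K_inv v u]

/-! ### The fixed points of `x` -/

theorem fixed_center {e w : T} (he : e ∈ Subgroup.center T) (he1 : e ≠ 1) (hxe : x e = e)
    (hw : w ∈ Subgroup.center T) (hxw : x w = w) : w = 1 ∨ w = e := by
  rcases h.center_list he he1 hw with e' | e' | e' | e'
  · exact Or.inl e'
  · exact Or.inr e'
  · exfalso
    have : ρ (ρ e) = ρ e := by
      have := h.dih e
      rw [hxe, ← e', hxw, e'] at this
      exact this.symm
    exact he1 (ρ.injective (h.fpf (ρ e) this |>.trans (map_one ρ).symm))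
  · exfalso
    have : ρ e = ρ (ρ e) := by
      have := h.dih' e
      rw [hxe, ← e', hxw, e'] at this
      exact this.symm
    exact he1 (ρ.injective (h.fpf (ρ e) this.symm |>.trans (map_one ρ).symm))

theorem exists_fixed_center : ∃ e ∈ Subgroup.center T, e ≠ 1 ∧ x e = e := by
  obtain ⟨⟨z, hz⟩, hz1⟩ : ∃ z : Subgroup.center T, z ≠ 1 := by
    haveI : Nontrivial (Subgroup.center T) :=
      Finite.one_lt_card_iff_nontrivial.mp (by rw [h.card_center]; norm_num)
    exact exists_ne 1
  have hz1' : z ≠ 1 := fun e => hz1 (Subtype.ext e)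
  by_cases hzx : z * x z = 1
  · refine ⟨z, hz, hz1', ?_⟩
    exact (eq_inv_of_mul_eq_one_right hzx).trans (inv_eq_of_mul_eq_one_right (h.center_sq hz))
  · refine ⟨z * x z, mul_mem hz (h.x_center hz), hzx, ?_⟩
    rw [map_mul, h.sq]
    exact (Subgroup.mem_center_iff.mp hz (x z))

theorem exists_lift {u : T} (hu : u⁻¹ * x u ∈ Subgroup.center T) :
    ∃ u', x u' = u' ∧ u⁻¹ * u' ∈ Subgroup.center T := by
  obtain ⟨e, he, he1, hxe⟩ := h.exists_fixed_center
  set z := u⁻¹ * x u with hz
  have hxu : x u = u * z := by rw [hz]; group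
  have hxz : x z = z := by
    have h1 := congrArg x hxu
    rw [h.sq, map_mul, hxu, mul_assoc] at h1
    have h2 : z * x z = 1 := mul_eq_left.mp h1.symm
    exact (eq_inv_of_mul_eq_one_right h2).trans (inv_eq_of_mul_eq_one_right (h.center_sq hu))
  rcases h.fixed_center he he1 hxe hu hxz with e1 | e1
  · exact ⟨u, by rw [hxu, e1, mul_one], by rw [inv_mul_cancel]; exact one_mem _⟩
  · refine ⟨u * ρ e, ?_, by rw [inv_mul_cancel_left]; exact h.rho_center he⟩
    rw [map_mul, hxu, e1, h.dih, hxe, mul_assoc]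
    congr 1
    calc e * ρ (ρ e) = e * ((e * ρ e)⁻¹) := by rw [eq_inv_of_mul_eq_one_right (h.norm e)]
      _ = e * ((ρ e)⁻¹ * e⁻¹) := by rw [mul_inv_rev]
      _ = e * (ρ e * e) := by
          rw [inv_eq_of_mul_eq_one_right (h.center_sq (h.rho_center he)),
            inv_eq_of_mul_eq_one_right (h.center_sq he)]
      _ = e * e * ρ e := by rw [Subgroup.mem_center_iff.mp he (ρ e), mul_assoc]
      _ = ρ e := by rw [h.center_sq he, one_mul]

theorem exists_pair : ∃ a b : T, x a = a ∧ x b = b ∧ K b a ≠ 1 := by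
  by_contra hall
  have hC : ∀ p q : T, x p = p → x q = q → K p q = 1 := fun p q hp hq =>
    by_contra fun hne => hall ⟨q, p, hq, hp, hne⟩
  set S : Set T := {u | x u = u} ∪ {u | ∃ q, x q = q ∧ u = ρ q} ∪ (Subgroup.center T : Set T) with hS
  have hScomm : ∀ u ∈ S, ∀ v ∈ S, u * v = v * u := by
    intro u hu v hv
    suffices hK : K u v = 1 by rw [h.swap u v, hK, one_mul]
    have hcen : ∀ z ∈ Subgroup.center T, ∀ w : T, K z w = 1 ∧ K w z = 1 := fun z hz w => by
      have e := Subgroup.mem_center_iff.mp hz w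
      constructor
      · unfold K; rw [← e]; group
      · unfold K; rw [e]; group
    rcases hv with (hv | ⟨q, hq, rfl⟩) | hv
    · rcases hu with (hu | ⟨p, hp, rfl⟩) | hu
      · exact hC u v hu hv
      · rw [h.K_rho_left, hC p v hp hv, map_one, map_one]
      · exact (hcen u hu v).1
    · rcases hu with (hu | ⟨p, hp, rfl⟩) | hu
      · rw [h.K_rho_right, hC u q hu hq, map_one, map_one]
      · rw [← h.K_map, hC p q hp hq, map_one]
      · exact (hcen u hu _).1
    · exact (hcen v hv u).2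
  haveI hcl : IsMulCommutative (Subgroup.closure S) := Subgroup.isMulCommutative_closure hScomm
  refine h.na ?_
  have hmem : ∀ y : T, y ∈ Subgroup.closure S := by
    intro y
    have hQc : ∀ u v : T, (u : T ⧸ Subgroup.center T) * v = v * u := by
      intro u v
      rw [← QuotientGroup.mk_mul, ← QuotientGroup.mk_mul]
      refine QuotientGroup.eq.mpr ?_
      rw [show (u * v)⁻¹ * (v * u) = K v⁻¹ u⁻¹ by unfold K; group]
      exact h.commutator_mem _ _
    have hQsq : ∀ u : T, (u : T ⧸ Subgroup.center T) * u = 1 := fun u => by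
      rw [← QuotientGroup.mk_mul]; exact (QuotientGroup.eq_one_iff _).mpr (h.sq_mem u)
    have hq0 : (y * x y)⁻¹ * x (y * x y) ∈ Subgroup.center T := by
      refine QuotientGroup.eq.mp ?_
      rw [map_mul, h.sq, QuotientGroup.mk_mul, QuotientGroup.mk_mul, hQc]
    obtain ⟨q, hxq, hq⟩ := h.exists_lift hq0
    have hqq : (q : T ⧸ Subgroup.center T) = (y * x y : T) := (QuotientGroup.eq.mpr hq).symm
    rw [QuotientGroup.mk_mul] at hqq
    have hnq : (q : T ⧸ Subgroup.center T) * (ρ q : T) = (ρ (ρ q) : T) := by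
      have h1 : ((q * ρ q * ρ (ρ q) : T) : T ⧸ Subgroup.center T) = ((1 : T) : T ⧸ _) := by
        rw [h.norm]
      rw [QuotientGroup.mk_mul, QuotientGroup.mk_mul, QuotientGroup.mk_one] at h1
      rw [eq_inv_of_mul_eq_one_left h1]
      exact inv_eq_of_mul_eq_one_right (hQsq _)
    have hr0 : (y * ρ q)⁻¹ * x (y * ρ q) ∈ Subgroup.center T := by
      refine QuotientGroup.eq.mp ?_
      rw [map_mul, h.dih, hxq, QuotientGroup.mk_mul, QuotientGroup.mk_mul, ← hnq, hqq,
        hQc y (x y), ← mul_assoc, ← mul_assoc, hQsq, one_mul]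
    obtain ⟨r, hxr, hr⟩ := h.exists_lift hr0
    have e : y = r * ((y * ρ q)⁻¹ * r)⁻¹ * (ρ q)⁻¹ := by group
    rw [e]
    refine mul_mem (mul_mem ?_ (inv_mem ?_)) (inv_mem ?_)
    · exact Subgroup.subset_closure (Or.inl (Or.inl hxr))
    · exact Subgroup.subset_closure (Or.inr hr)
    · exact Subgroup.subset_closure (Or.inl (Or.inr ⟨q, hxq, rfl⟩))
  exact ⟨⟨fun u v => congrArg Subtype.val (hcl.is_comm.comm (⟨u, hmem u⟩ : Subgroup.closure S) ⟨v, hmem v⟩)⟩⟩

end Hyp

end CfsgLib.SixtyFour
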