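import Mathlib
import Cfsg.Agent.Lib.SixtyFour.Structure
import Cfsg.Agent.Lib.SixtyFour.Eight
import Cfsg.Agent.Lib.Classical.PSLThreeFour
import Cfsg.Agent.Lib.Steiner.Plane

/-!
The group of order 64 is a Sylow 2-subgroup of `PSL(3,4)`.
-/

set_option autoImplicit false
set_option linter.unusedSectionVars false

namespace CfsgLib.SixtyFour

open Matrix

variable {T : Type*} [Group T]

namespace Hyp

variable [Finite T] {ρ x : MulAut T} (h : Hyp ρ x)
include h

theorem rho_sq (y : T) : ρ (ρ y) = (y * ρ y)⁻¹ := eq_inv_of_mul_eq_one_right (h.norm y)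

theorem commute_center {z : T} (hz : z ∈ Subgroup.center T) (w : T) : Commute w z :=
  Subgroup.mem_center_iff.mp hz w

/-- Two involutions, outside the centre, with nontrivial commutator, built from two fixed points. -/
theorem exists_involutions : ∃ a b A B : T, x a = a ∧ x b = b ∧ K b a ≠ 1 ∧ A * A = 1 ∧
    B * B = 1 ∧ K B A ≠ 1 ∧ A ∈ Subgroup.closure {a, b, ρ a, ρ b} ∧
    B ∈ Subgroup.closure {a, b, ρ a, ρ b} := by
  obtain ⟨a, b, hxa, hxb, hne⟩ := h.exists_pair
  refine ⟨a, b, ?_⟩
  set c := K b a with hc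
  have hcZ : c ∈ Subgroup.center T := h.commutator_mem b a
  have hxc : x c = c := by rw [hc, h.K_map, hxa, hxb]
  have hcc : c * c = 1 := h.center_sq hcZ
  have hA : a * a = 1 ∨ a * a = c :=
    h.fixed_center hcZ hne hxc (h.sq_mem a) (by rw [map_mul, hxa])
  have hB : b * b = 1 ∨ b * b = c :=
    h.fixed_center hcZ hne hxc (h.sq_mem b) (by rw [map_mul, hxb])
  have hprod : ∀ u v : T, (u * v) * (u * v) = K v u * ((u * u) * (v * v)) := by
    intro u v
    have e1 : v * u = K v u * (u * v) := h.swap v u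
    calc (u * v) * (u * v) = u * (v * u) * v := by group
      _ = u * (K v u * (u * v)) * v := by rw [← e1]
      _ = u * K v u * (u * v * v) := by group
      _ = K v u * ((u * u) * (v * v)) := by
          rw [← h.K_comm v u u]; group
  have ma : a ∈ Subgroup.closure {a, b, ρ a, ρ b} := Subgroup.subset_closure (by simp)
  have mb : b ∈ Subgroup.closure {a, b, ρ a, ρ b} := Subgroup.subset_closure (by simp)
  have mrb : ρ b ∈ Subgroup.closure {a, b, ρ a, ρ b} := Subgroup.subset_closure (by simp)
  rcases hA with hA | hA <;> rcases hB with hB | hB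
  · exact ⟨a, b, hxa, hxb, hne, hA, hB, hne, ma, mb⟩
  · refine ⟨a, a * b, hxa, hxb, hne, hA, ?_, ?_, ma, mul_mem ma mb⟩
    · rw [hprod, hA, hB, one_mul, ← hc, hcc]
    · rw [h.K_mul_left, h.K_self, one_mul]; exact hne
  · refine ⟨a * b, b, hxa, hxb, hne, ?_, hB, ?_, mul_mem ma mb, mb⟩
    · rw [hprod, hA, hB, mul_one, ← hc, hcc]
    · rw [h.K_mul_right, h.K_self, mul_one]; exact hne
  · refine ⟨a * ρ b, a * ρ (ρ b), hxa, hxb, hne, ?_, ?_, ?_, mul_mem ma mrb,
      mul_mem ma (by rw [h.rho_sq]; exact inv_mem (mul_mem mb mrb))⟩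
    · rw [hprod, hA, ← map_mul, hB, h.K_rho_left, ← hc,
        (h.commute_center (h.rho_center (h.rho_center hcZ)) (c * ρ c)).symm.eq, h.norm]
    · rw [hprod, hA, ← map_mul, ← map_mul, hB, h.K_rho_left, h.K_rho_left, ← hc, h.cube,
        ← mul_assoc, (h.commute_center hcZ (ρ c)).eq, h.norm]
    · have e1 : K a (ρ b) = ρ (ρ c) := by rw [h.K_rho_right, hc, h.K_inv a b]
      have e2 : K (ρ (ρ b)) a = ρ c := by rw [h.K_rho_left, h.K_rho_left, h.cube, ← hc]
      have e3 : K (ρ (ρ b)) (ρ b) = 1 := by rw [h.K_inv (ρ b), h.K_rho_self]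
      rw [h.K_mul_left, h.K_mul_right a a, h.K_mul_right (ρ (ρ b)), h.K_self, e1, e2, e3,
        one_mul, mul_one]
      intro e'
      refine hne ?_
      have hn := h.norm c
      rwa [mul_assoc, (h.commute_center (h.rho_center (h.rho_center hcZ)) (ρ c)).eq, e',
        mul_one] at hn

theorem fixed_card {a b A B : T} (hxa : x a = a) (hxb : x b = b) (hne : K b a ≠ 1)
    (hA : A ∈ Subgroup.closure {a, b, ρ a, ρ b}) (hB : B ∈ Subgroup.closure {a, b, ρ a, ρ b})
    (hgen : ∀ y : T, y ∈ Subgroup.closure ({A, B, ρ A, ρ B} ∪ (Subgroup.center T : Set T)))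
    (C : Subgroup T) (hC : ∀ y : T, y ∈ C ↔ x y = y) : Nat.card C = 8 ∧ ¬ IsMulCommutative C := by
  classical
  set c := K b a with hc
  have hcZ : c ∈ Subgroup.center T := h.commutator_mem b a
  have hxc : x c = c := by rw [hc, h.K_map, hxa, hxb]
  have hna : ¬ IsMulCommutative C := fun hcom => hne (by
    have e : b * a = a * b :=
      congrArg Subtype.val (hcom.is_comm.comm ⟨b, (hC b).mpr hxb⟩ ⟨a, (hC a).mpr hxa⟩)
    rw [hc]; unfold K; rw [e]; group)
  refine ⟨?_, hna⟩
  have hsub : ∀ u ∈ C, ∃ i j k : Bool, u = (bif i then a else 1) * (bif j then b else 1) *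
      (bif k then c else 1) := by
    intro u hu
    have hxu : x u = u := (hC u).mp hu
    have hKv : ∀ v : T, x v = v → K u v = 1 ∨ K u v = c := fun v hv =>
      h.fixed_center hcZ hne hxc (h.commutator_mem u v) (by rw [h.K_map, hxu, hv])
    obtain ⟨i, hi⟩ : ∃ i : Bool, (bif i then c else 1) = K u b := by
      rcases hKv b hxb with e | e
      exacts [⟨false, e.symm⟩, ⟨true, e.symm⟩]
    obtain ⟨j, hj⟩ : ∃ j : Bool, (bif j then c else 1) = K u a := by
      rcases hKv a hxa with e | e
      exacts [⟨false, e.symm⟩, ⟨true, e.symm⟩]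
    set w := (bif i then a else 1) * (bif j then b else 1) with hw
    have hxw : x w = w := by
      rw [hw]; cases i <;> cases j <;> simp [hxa, hxb]
    have hKb : K w b = K u b := by
      rw [hw, h.K_mul_left, ← hi]
      cases i <;> cases j <;> simp [h.K_self, h.K_one_left, h.K_inv b a, hc]
    have hKa : K w a = K u a := by
      rw [hw, h.K_mul_left, ← hj]
      cases i <;> cases j <;> simp [h.K_self, h.K_one_left, hc]
    set v := w⁻¹ * u with hv
    have huv : u = w * v := by rw [hv]; group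
    have hxv : x v = v := by rw [hv, map_mul, map_inv, hxw, hxu]
    have hva : K v a = 1 := by
      have e := h.K_mul_left w v a
      rw [← huv, hKa] at e
      exact mul_eq_left.mp e.symm
    have hvb : K v b = 1 := by
      have e := h.K_mul_left w v b
      rw [← huv, hKb] at e
      exact mul_eq_left.mp e.symm
    have hvZ : v ∈ Subgroup.center T := by
      have hle : Subgroup.closure {a, b, ρ a, ρ b} ≤ Subgroup.centralizer {v} := by
        rw [Subgroup.closure_le]
        intro g hg
        rw [SetLike.mem_coe, Subgroup.mem_centralizer_singleton_iff]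
        rcases hg with rfl | rfl | rfl | rfl
        · rw [h.swap v g, hva, one_mul]
        · rw [h.swap v g, hvb, one_mul]
        · rw [h.swap v (ρ a), h.K_rho_right, hva, map_one, map_one, one_mul]
        · rw [h.swap v (ρ b), h.K_rho_right, hvb, map_one, map_one, one_mul]
      have hAB : ∀ g ∈ ({A, B, ρ A, ρ B} : Set T), g * v = v * g := by
        have hrho : ∀ g ∈ Subgroup.closure {a, b, ρ a, ρ b}, ρ g ∈ Subgroup.closure {a, b, ρ a, ρ b} := by
          intro g hg
          have hmap : (Subgroup.closure {a, b, ρ a, ρ b}).map ρ.toMonoidHom ≤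
              Subgroup.closure {a, b, ρ a, ρ b} := by
            rw [MonoidHom.map_closure, Subgroup.closure_le]
            rintro _ ⟨k, hk, rfl⟩
            rcases hk with rfl | rfl | rfl | rfl
            · exact Subgroup.subset_closure (by simp)
            · exact Subgroup.subset_closure (by simp)
            · change ρ (ρ a) ∈ _
              rw [h.rho_sq]
              exact inv_mem (mul_mem (Subgroup.subset_closure (by simp)) (Subgroup.subset_closure (by simp)))
            · change ρ (ρ b) ∈ _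
              rw [h.rho_sq]
              exact inv_mem (mul_mem (Subgroup.subset_closure (by simp)) (Subgroup.subset_closure (by simp)))
          exact hmap ⟨g, hg, rfl⟩
        rintro g (rfl | rfl | rfl | rfl)
        · exact Subgroup.mem_centralizer_singleton_iff.mp (hle hA)
        · exact Subgroup.mem_centralizer_singleton_iff.mp (hle hB)
        · exact Subgroup.mem_centralizer_singleton_iff.mp (hle (hrho _ hA))
        · exact Subgroup.mem_centralizer_singleton_iff.mp (hle (hrho _ hB))
      refine Subgroup.mem_center_iff.mpr fun g => ?_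
      have hle2 : Subgroup.closure ({A, B, ρ A, ρ B} ∪ (Subgroup.center T : Set T)) ≤
          Subgroup.centralizer {v} := by
        rw [Subgroup.closure_le]
        rintro k (hk | hk)
        · exact Subgroup.mem_centralizer_singleton_iff.mpr (hAB k hk)
        · exact Subgroup.mem_centralizer_singleton_iff.mpr (Subgroup.mem_center_iff.mp hk v).symm
      exact Subgroup.mem_centralizer_singleton_iff.mp (hle2 (hgen g))
    rcases h.fixed_center hcZ hne hxc hvZ hxv with e | e
    · exact ⟨i, j, false, by rw [huv, e]; rfl⟩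
    · exact ⟨i, j, true, by rw [huv, e]; rfl⟩
  have hle8 : Nat.card C ≤ 8 := by
    choose I J L hIJL using fun u : C => hsub u u.2
    let F : C → Bool × Bool × Bool := fun u => (I u, J u, L u)
    have hF : Function.Injective F := by
      intro u v huv
      refine Subtype.ext ?_
      simp only [F, Prod.mk.injEq] at huv
      rw [hIJL u, hIJL v, huv.1, huv.2.1, huv.2.2]
    calc Nat.card C ≤ Nat.card (Bool × Bool × Bool) := Nat.card_le_card_of_injective F hF
      _ = 8 := by simp
  haveI := Fact.mk Nat.prime_two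
  obtain ⟨n, hn⟩ := IsPGroup.iff_card.mp
    ((IsPGroup.of_card (n := 6) (by rw [h.card]; norm_num) : IsPGroup 2 T).to_subgroup C)
  have h3 : 3 ≤ n := by
    by_contra hlt
    refine hna ?_
    interval_cases n
    · haveI : Subsingleton C := (Nat.card_eq_one_iff_unique.mp (by simpa using hn)).1
      exact ⟨⟨fun p q => Subsingleton.elim _ _⟩⟩
    · haveI : IsCyclic C := isCyclic_of_prime_card (p := 2) (by simpa using hn)
      exact IsCyclic.isMulCommutative
    · exact IsPGroup.isMulCommutative_of_card_eq_prime_sq (p := 2) hn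
  have : 2 ^ 3 ≤ 2 ^ n := Nat.pow_le_pow_right (by norm_num) h3
  omega

end Hyp

/-! ### The isomorphism -/

section Iso

variable {F : Type} [Field F] [Fintype F]

/-- The unitriangular matrix. -/
def umat (p : F × F × F) : SpecialLinearGroup (Fin 3) F :=
  ⟨!![1, p.1, p.2.2; 0, 1, p.2.1; 0, 0, 1], by simp [Matrix.det_fin_three]⟩

theorem umat_mul (p q : F × F × F) :
    umat p * umat q = umat (p.1 + q.1, p.2.1 + q.2.1, p.2.2 + q.2.2 + p.1 * q.2.1) := by
  apply Subtype.ext
  show _ * _ = _
  ext i j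
  fin_cases i <;> fin_cases j <;>
    simp [umat, Matrix.mul_apply, Fin.sum_univ_three, Matrix.vecMul, dotProduct] <;> ring

/-- The image in the projective group. -/
def pmat (p : F × F × F) : ProjectiveSpecialLinearGroup (Fin 3) F := QuotientGroup.mk (umat p)

theorem pmat_mul (p q : F × F × F) :
    pmat p * pmat q = pmat (p.1 + q.1, p.2.1 + q.2.1, p.2.2 + q.2.2 + p.1 * q.2.1) :=
  (congrArg QuotientGroup.mk (umat_mul p q) :)

theorem pmat_injective : Function.Injective (pmat (F := F)) := by
  intro p q hpq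
  have hc := QuotientGroup.eq.mp (hpq : (umat p : ProjectiveSpecialLinearGroup (Fin 3) F) = umat q)
  obtain ⟨r, hr3, hr⟩ := Matrix.SpecialLinearGroup.mem_center_iff.mp hc
  have e : (umat q).1 = (umat p).1 * Matrix.scalar (Fin 3) r := by
    rw [hr, ← Matrix.SpecialLinearGroup.coe_mul, mul_inv_cancel_left]
  have h00 := congrFun (congrFun e 0) 0
  have h01 := congrFun (congrFun e 0) 1
  have h02 := congrFun (congrFun e 0) 2
  have h12 := congrFun (congrFun e 1) 2
  simp [umat, Matrix.scalar_apply] at h00 h01 h02 h12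
  subst h00
  obtain ⟨p1, p2, p3⟩ := p
  obtain ⟨q1, q2, q3⟩ := q
  simp_all

variable [Finite T] {ρ x : MulAut T} (h : Hyp ρ x)
include h

theorem exists_sylow_iso (hF : Fintype.card F = 4) {A B : T} (hA : A * A = 1) (hB : B * B = 1)
    (hne : K B A ≠ 1) :
    (∃ S : Sylow 2 (ProjectiveSpecialLinearGroup (Fin 3) F),
      Nonempty (T ≃* ↥(S : Subgroup (ProjectiveSpecialLinearGroup (Fin 3) F)))) ∧
    ∀ y : T, y ∈ Subgroup.closure ({A, B, ρ A, ρ B} ∪ (Subgroup.center T : Set T)) := by
  classical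
  haveI := Fact.mk Nat.prime_two
  have h2 := Classical.PSLThreeFour.two_eq_zero hF
  obtain ⟨w, hw⟩ := Classical.PSLThreeFour.exists_w hF
  have hinj : Function.Injective (Classical.PSLThreeFour.val w) :=
    ((Fintype.bijective_iff_surjective_and_card _).mpr
      ⟨fun z => Classical.PSLThreeFour.val_surjective hF hw z, by simp [hF]⟩).1
  let e : (Bool × Bool) ≃ F := Equiv.ofBijective _ ⟨hinj, fun z =>
    Classical.PSLThreeFour.val_surjective hF hw z⟩
  have headd : ∀ u v, e (Classical.PSLThreeFour.eadd u v) = e u + e v :=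
    fun u v => Classical.PSLThreeFour.val_add h2 u v
  have hemul : ∀ u v, e (Classical.PSLThreeFour.emul u v) = e u * e v :=
    fun u v => Classical.PSLThreeFour.val_mul h2 hw u v
  set c := K B A with hc
  set d := K B (ρ A) with hd
  have hcZ : c ∈ Subgroup.center T := h.commutator_mem _ _
  have hdZ : d ∈ Subgroup.center T := h.commutator_mem _ _
  let g : T → T → Bool × Bool → T := fun s t u => (bif u.1 then s else 1) * (bif u.2 then t else 1)
  have hgadd : ∀ s t : T, s * s = 1 → t * t = 1 → Commute s t → ∀ u v,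
      g s t u * g s t v = g s t (Classical.PSLThreeFour.eadd u v) := by
    intro s t hs ht hst u v
    have hst' : t * s = s * t := hst.eq.symm
    have e1 : ∀ z, s * (s * z) = z := fun z => by rw [← mul_assoc, hs, one_mul]
    have e2 : ∀ z, t * (t * z) = z := fun z => by rw [← mul_assoc, ht, one_mul]
    have e3 : ∀ z, t * (s * z) = s * (t * z) := fun z => by rw [← mul_assoc, hst', mul_assoc]
    obtain ⟨_ | _, _ | _⟩ := u <;> obtain ⟨_ | _, _ | _⟩ := v <;>
      simp [g, Classical.PSLThreeFour.eadd, hs, ht, hst', e1, e2, e3, mul_assoc]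
  have hrA : ρ A * ρ A = 1 := by rw [← map_mul, hA, map_one]
  have hrB : ρ B * ρ B = 1 := by rw [← map_mul, hB, map_one]
  let φ := g A (ρ A)
  let ψ := g B (ρ B)
  let χ := g c d
  have hφ : ∀ u v, φ u * φ v = φ (Classical.PSLThreeFour.eadd u v) :=
    hgadd A (ρ A) hA hrA (commute_rho ρ h.cube h.fpf A)
  have hψ : ∀ u v, ψ u * ψ v = ψ (Classical.PSLThreeFour.eadd u v) :=
    hgadd B (ρ B) hB hrB (commute_rho ρ h.cube h.fpf B)
  have hχ : ∀ u v, χ u * χ v = χ (Classical.PSLThreeFour.eadd u v) :=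
    hgadd c d (h.center_sq hcZ) (h.center_sq hdZ) (h.commute_center hdZ c)
  have hχZ : ∀ u, χ u ∈ Subgroup.center T := by
    rintro ⟨_ | _, _ | _⟩ <;> simp [χ, g, hcZ, hdZ, mul_mem hcZ hdZ]
  have hKd : K (ρ B) A = d := by rw [h.K_rho_left, hd, h.K_rho_right]
  have hKcd : K (ρ B) (ρ A) = c * d := by
    rw [← h.K_map, hd, h.K_rho_right, ← hc]
    have hn := h.norm c
    calc ρ c = (c * c) * ρ c * ρ (ρ c) * (ρ (ρ c))⁻¹ := by rw [h.center_sq hcZ]; group
      _ = c * (c * ρ c * ρ (ρ c)) * (ρ (ρ c))⁻¹ := by group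
      _ = c * ρ (ρ c) := by
          rw [hn, mul_one, inv_eq_of_mul_eq_one_right (h.center_sq (h.rho_center (h.rho_center hcZ)))]
  have hone : ∀ v : T, K v 1 = 1 := fun v => by unfold K; group
  have hK : ∀ u v, K (ψ u) (φ v) = χ (Classical.PSLThreeFour.emul u v) := by
    intro u v
    have hdd := h.center_sq hdZ
    have hcc := h.center_sq hcZ
    have hdc : d * c = c * d := (h.commute_center hcZ d).eq
    have e1 : ∀ z, c * (c * z) = z := fun z => by rw [← mul_assoc, hcc, one_mul]
    have e2 : ∀ z, d * (d * z) = z := fun z => by rw [← mul_assoc, hdd, one_mul]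
    have e3 : ∀ z, d * (c * z) = c * (d * z) := fun z => by rw [← mul_assoc, hdc, mul_assoc]
    obtain ⟨_ | _, _ | _⟩ := u <;> obtain ⟨_ | _, _ | _⟩ := v <;>
      simp [ψ, φ, χ, g, Classical.PSLThreeFour.emul, h.K_mul_left, h.K_mul_right, h.K_one_left,
        hone, ← hc, ← hd, hKd, hKcd, hcc, hdd, hdc, e1, e2, e3, mul_assoc]
  let Φ : (Bool × Bool) × (Bool × Bool) × (Bool × Bool) → T :=
    fun p => φ p.2.1 * ψ p.1 * χ p.2.2
  have hΦ : ∀ p q, Φ p * Φ q = Φ (Classical.PSLThreeFour.eadd p.1 q.1,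
      Classical.PSLThreeFour.eadd p.2.1 q.2.1, Classical.PSLThreeFour.eadd
        (Classical.PSLThreeFour.eadd p.2.2 q.2.2) (Classical.PSLThreeFour.emul p.1 q.2.1)) := by
    rintro ⟨x1, y1, z1⟩ ⟨x2, y2, z2⟩
    simp only [Φ]
    rw [← hφ, ← hψ, ← hχ, ← hχ, ← hK]
    have hz := fun u (w : T) => (h.commute_center (hχZ u) w).eq
    calc φ y1 * ψ x1 * χ z1 * (φ y2 * ψ x2 * χ z2)
        = φ y1 * ψ x1 * (χ z1 * (φ y2 * ψ x2)) * χ z2 := by group
      _ = φ y1 * (ψ x1 * φ y2) * ψ x2 * (χ z1 * χ z2) := by rw [← hz]; group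
      _ = φ y1 * (K (ψ x1) (φ y2) * (φ y2 * ψ x1)) * ψ x2 * (χ z1 * χ z2) := by rw [← h.swap]
      _ = φ y1 * φ y2 * (ψ x1 * ψ x2) * (χ z1 * χ z2 * K (ψ x1) (φ y2)) := by
          rw [← mul_assoc (φ y1) (K _ _), ← h.K_comm (ψ x1) (φ y2) (φ y1)]
          rw [← h.K_comm (ψ x1) (φ y2) (χ z1 * χ z2)]
          have := h.K_comm (ψ x1) (φ y2)
          calc _ = K (ψ x1) (φ y2) * (φ y1 * φ y2 * (ψ x1 * ψ x2)) * (χ z1 * χ z2) := by group
            _ = φ y1 * φ y2 * (ψ x1 * ψ x2) * K (ψ x1) (φ y2) * (χ z1 * χ z2) := by rw [this]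
            _ = _ := by group
  have hd_eq : d = ρ (ρ c) := by rw [hd, h.K_rho_right]
  have hχinj : ∀ u, χ u = 1 → u = (false, false) := by
    have hd1 : d ≠ 1 := fun e' => hne (by
      rw [hd_eq] at e'
      exact ρ.injective (ρ.injective (e'.trans (by simp))))
    have hcd : c * d ≠ 1 := fun e' => hne (by
      have e2 : ρ c = 1 := by rw [hKcd.symm, ← h.K_map, ← hc] at e'; exact e'
      exact ρ.injective (e2.trans (map_one ρ).symm))
    rintro ⟨_ | _, _ | _⟩ hu <;> simp [χ, g] at hu ⊢
    · exact hd1 hu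
    · exact hne hu
    · exact hcd hu
  have hker : ∀ p, Φ p = 1 → p = ((false, false), (false, false), (false, false)) := by
    rintro ⟨x1, y1, z1⟩ hp
    simp only [Φ] at hp
    have hz : ∀ v, K (χ z1) v = 1 := fun v => by
      have := Subgroup.mem_center_iff.mp (hχZ z1) v
      unfold K; rw [← this]; group
    have hφφ : ∀ u v, K (φ u) (φ v) = 1 := fun u v => by
      have e' : φ u * φ v = φ v * φ u := by
        rw [hφ, hφ]; congr 1
        obtain ⟨_ | _, _ | _⟩ := u <;> obtain ⟨_ | _, _ | _⟩ := v <;> rfl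
      unfold K; rw [e']; group
    have hψψ : ∀ u v, K (ψ u) (ψ v) = 1 := fun u v => by
      have e' : ψ u * ψ v = ψ v * ψ u := by
        rw [hψ, hψ]; congr 1
        obtain ⟨_ | _, _ | _⟩ := u <;> obtain ⟨_ | _, _ | _⟩ := v <;> rfl
      unfold K; rw [e']; group
    have ha : χ (Classical.PSLThreeFour.emul x1 (true, false)) = 1 := by
      have := h.K_mul_left (φ y1 * ψ x1) (χ z1) (φ (true, false))
      rw [hp, h.K_one_left, hz, mul_one, h.K_mul_left, hφφ, one_mul, hK] at this
      exact this.symm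
    have hb : χ (Classical.PSLThreeFour.emul (true, false) y1) = 1 := by
      have := h.K_mul_left (φ y1 * ψ x1) (χ z1) (ψ (true, false))
      rw [hp, h.K_one_left, hz, mul_one, h.K_mul_left, hψψ, mul_one, h.K_inv, hK] at this
      exact this.symm
    have hx1 : x1 = (false, false) := by
      have := hχinj _ ha
      obtain ⟨_ | _, _ | _⟩ := x1 <;> simp [Classical.PSLThreeFour.emul] at this ⊢
    have hy1 : y1 = (false, false) := by
      have := hχinj _ hb
      obtain ⟨_ | _, _ | _⟩ := y1 <;> simp [Classical.PSLThreeFour.emul] at this ⊢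
    subst hx1 hy1
    have : χ z1 = 1 := by simpa [φ, ψ, g] using hp
    rw [hχinj _ this]
  have hΦinj : Function.Injective Φ := by
    rintro ⟨x1, y1, z1⟩ ⟨x2, y2, z2⟩ hpq
    have key := hΦ (x1, y1, z1)
      (x1, y1, Classical.PSLThreeFour.eadd z1 (Classical.PSLThreeFour.emul x1 y1))
    have key2 := hΦ (x2, y2, z2)
      (x1, y1, Classical.PSLThreeFour.eadd z1 (Classical.PSLThreeFour.emul x1 y1))
    rw [hpq, key2] at key
    have hone' : Φ (Classical.PSLThreeFour.eadd x1 x1, Classical.PSLThreeFour.eadd y1 y1,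
        Classical.PSLThreeFour.eadd (Classical.PSLThreeFour.eadd z1
          (Classical.PSLThreeFour.eadd z1 (Classical.PSLThreeFour.emul x1 y1)))
          (Classical.PSLThreeFour.emul x1 y1)) = 1 := by
      have hself : ∀ u : Bool × Bool, Classical.PSLThreeFour.eadd u u = (false, false) := by decide
      have hzz : ∀ u v : Bool × Bool, Classical.PSLThreeFour.eadd
          (Classical.PSLThreeFour.eadd u (Classical.PSLThreeFour.eadd u v)) v = (false, false) := by
        decide
      rw [hself, hself, hzz]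
      simp [Φ, φ, ψ, χ, g]
    have := hker _ (key.trans hone')
    have haux : ∀ u v : Bool × Bool, Classical.PSLThreeFour.eadd u v = (false, false) → u = v := by
      decide
    simp only [Prod.mk.injEq] at this
    obtain ⟨i1, i2, i3⟩ := this
    have e1 := haux x2 x1 i1
    have e2 := haux y2 y1 i2
    subst e1 e2
    have haux3 : ∀ u v m : Bool × Bool, Classical.PSLThreeFour.eadd
        (Classical.PSLThreeFour.eadd u (Classical.PSLThreeFour.eadd v m)) m = (false, false) → u = v := by
      decide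
    rw [haux3 z2 z1 _ i3]
  have hΦbij : Function.Bijective Φ :=
    (Nat.bijective_iff_injective_and_card Φ).mpr ⟨hΦinj, by rw [h.card]; simp⟩
  constructor
  · let E : (Bool × Bool) × (Bool × Bool) × (Bool × Bool) → F × F × F :=
      fun p => (e p.1, e p.2.1, e p.2.2)
    let Θ : T → ProjectiveSpecialLinearGroup (Fin 3) F :=
      fun t => pmat (E ((Equiv.ofBijective Φ hΦbij).symm t))
    have hΘmul : ∀ s t, Θ (s * t) = Θ s * Θ t := by
      intro s t
      obtain ⟨p, rfl⟩ := hΦbij.2 s
      obtain ⟨q, rfl⟩ := hΦbij.2 t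
      simp only [Θ, hΦ, Equiv.ofBijective_symm_apply_apply, pmat_mul]
      congr 1
      simp [E, headd, hemul]
    let θ : T →* ProjectiveSpecialLinearGroup (Fin 3) F := MonoidHom.mk' Θ hΘmul
    have hθ : Function.Injective θ := by
      refine pmat_injective.comp ?_
      intro s t hst
      simp only [E, Prod.mk.injEq, e.injective.eq_iff] at hst
      exact (Equiv.ofBijective Φ hΦbij).symm.injective (Prod.ext hst.1 (Prod.ext hst.2.1 hst.2.2))
    have hcard : Nat.card θ.range = 2 ^ 6 := by
      rw [← Nat.card_congr (MonoidHom.ofInjective hθ).toEquiv, h.card]; norm_num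
    obtain ⟨S, hS⟩ := (IsPGroup.of_card hcard).exists_le_sylow
    have hSe : (S : Subgroup (ProjectiveSpecialLinearGroup (Fin 3) F)) = θ.range := by
      refine (Subgroup.eq_of_le_of_card_ge hS ?_).symm
      rw [hcard, Sylow.card_eq_multiplicity, Steiner.natCard_PSL34 F hF]
      exact Nat.pow_le_pow_right (by norm_num) (le_of_eq (by
        rw [show (20160 : ℕ) = 2 ^ 6 * 315 by norm_num, Nat.factorization_mul (by norm_num) (by norm_num),
          Nat.Prime.factorization_pow Nat.prime_two]
        simp [Nat.factorization_eq_zero_of_not_dvd (show ¬ 2 ∣ 315 by norm_num)]))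
    exact ⟨S, ⟨(MonoidHom.ofInjective hθ).trans (MulEquiv.subgroupCongr hSe.symm)⟩⟩
  · intro y
    obtain ⟨p, rfl⟩ := hΦbij.2 y
    have hg : ∀ s t, s ∈ Subgroup.closure ({A, B, ρ A, ρ B} ∪ (Subgroup.center T : Set T)) →
        t ∈ Subgroup.closure ({A, B, ρ A, ρ B} ∪ (Subgroup.center T : Set T)) →
        ∀ u, g s t u ∈ Subgroup.closure ({A, B, ρ A, ρ B} ∪ (Subgroup.center T : Set T)) := by
      intro s t hs ht u
      obtain ⟨_ | _, _ | _⟩ := u <;> simp [g, hs, ht, mul_mem hs ht, one_mem]
    exact mul_mem (mul_mem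
      (hg _ _ (Subgroup.subset_closure (Or.inl (by simp))) (Subgroup.subset_closure (Or.inl (by simp))) _)
      (hg _ _ (Subgroup.subset_closure (Or.inl (by simp))) (Subgroup.subset_closure (Or.inl (by simp))) _))
      (Subgroup.subset_closure (Or.inr (hχZ _)))

end Iso

theorem main [Finite T] (hT : Nat.card T = 64) (hna : ¬ IsMulCommutative T) (ρ x : MulAut T)
    (hρ : orderOf ρ = 3) (hx : orderOf x = 2) (hxr : x * ρ * x⁻¹ = ρ⁻¹)
    (hfp : ∀ y : T, ρ y = y → y = 1) (C : Subgroup T) (hC : ∀ y : T, y ∈ C ↔ x y = y) :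
    (∃ (F : Type) (_ : Field F) (_ : Fintype F), Fintype.card F = 4 ∧
        ∃ S : Sylow 2 (ProjectiveSpecialLinearGroup (Fin 3) F),
          Nonempty (T ≃* ↥(S : Subgroup (ProjectiveSpecialLinearGroup (Fin 3) F)))) ∧
      (Nonempty (↥C ≃* DihedralGroup 4) ∨ Nonempty (↥C ≃* QuaternionGroup 2)) := by
  have hρ3 : ρ ^ 3 = 1 := hρ ▸ pow_orderOf_eq_one ρ
  have hx2 : x ^ 2 = 1 := hx ▸ pow_orderOf_eq_one x
  have hcube : ∀ y : T, ρ (ρ (ρ y)) = y := fun y => by
    have := congrArg (fun f : MulAut T => f y) hρ3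
    simpa [pow_succ] using this
  have hsq : ∀ y : T, x (x y) = y := fun y => by
    have := congrArg (fun f : MulAut T => f y) hx2
    simpa [pow_succ] using this
  have hdih : ∀ y : T, x (ρ y) = ρ (ρ (x y)) := fun y => by
    have e1 : x * ρ = ρ ^ 2 * x := by
      calc x * ρ = x * ρ * x⁻¹ * x := by group
        _ = ρ⁻¹ * x := by rw [hxr]
        _ = ρ ^ 2 * x := by rw [inv_eq_of_mul_eq_one_right (by rw [← pow_succ']; exact hρ3)]
    have := congrArg (fun f : MulAut T => f y) e1
    simpa [pow_succ] using this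
  have h : Hyp ρ x := ⟨hT, hna, hcube, hsq, hdih, hfp⟩
  obtain ⟨a, b, A, B, hxa, hxb, hne, hA, hB, hAB, hAm, hBm⟩ := h.exists_involutions
  haveI := Fact.mk Nat.prime_two
  haveI : Fintype (GaloisField 2 2) := Fintype.ofFinite _
  have hF : Fintype.card (GaloisField 2 2) = 4 := by
    rw [← Nat.card_eq_fintype_card, GaloisField.card 2 2 (by norm_num)]; norm_num
  obtain ⟨hS, hgen⟩ := exists_sylow_iso h hF hA hB hAB
  obtain ⟨hC8, hCna⟩ := h.fixed_card hxa hxb hne hAm hBm hgen C hC
  exact ⟨⟨GaloisField 2 2, inferInstance, inferInstance, hF, hS⟩,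
    eight_dihedral_or_quaternion hC8 hCna⟩

end CfsgLib.SixtyFour
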